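import Cfsg.Agent.H514.QS.J3Tab

/-!
# `3·J₃`: the equations between the elements of the table (helper514)
-/

set_option autoImplicit false
set_option maxRecDepth 100000

namespace Cfsg.Agent.H514.QS

open Cfsg.Agent.J3.Tab

/-- `T_a T_b = ω ^ z T_k` -/
def e3 (a b k z : ℕ) : Bool := beqL (compT (tb a) (cols (tb b))) (compT (tS z) (cols (tb k)))

/-- `T_a T_b = ω ^ z T_c T_d` -/
def e4 (a b c d z : ℕ) : Bool := beqL (compT (tb a) (cols (tb b))) (compT (tS z) (compT (tb c) (cols (tb d))))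

/-- the indices of the Sylow 3-subgroup -/
def inP (k : ℕ) : Bool := Nat.ble k 244 && (!(Nat.beq k 2) && !(Nat.beq k 3))

/-- the list of these indices -/
def p3 : List ℕ :=
  [0, 1, 4, 5, 6, 7, 8, 9, 10, 11, 12, 13, 14, 15, 16, 17, 18, 19, 20, 21, 22, 23, 24, 25, 26, 27, 28, 29, 30, 31, 32, 33, 34, 35, 36, 37, 38, 39, 40, 41, 42, 43, 44, 45, 46, 47, 48, 49, 50, 51, 52, 53, 54, 55, 56, 57, 58, 59, 60, 61, 62, 63, 64, 65, 66, 67, 68, 69, 70, 71, 72, 73, 74, 75, 76, 77, 78, 79, 80, 81, 82, 83, 84, 85, 86, 87, 88, 89, 90, 91, 92, 93, 94, 95, 96, 97, 98, 99, 100, 101, 102, 103, 104, 105, 106, 107, 108, 109, 110, 111, 112, 113, 114, 115, 116, 117, 118, 119, 120, 121, 122, 123, 124, 125, 126, 127, 128, 129, 130, 131, 132, 133, 134, 135, 136, 137, 138, 139, 140, 141, 142, 143, 144, 145, 146, 147, 148, 149, 150, 151, 152, 153, 154, 155, 156, 157, 158, 159, 160, 161, 162, 163, 164, 165, 166, 167, 168, 169, 170, 171, 172, 173, 174, 175, 176,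 177, 178, 179, 180, 181, 182, 183, 184, 185, 186, 187, 188, 189, 190, 191, 192, 193, 194, 195, 196, 197, 198, 199, 200, 201, 202, 203, 204, 205, 206, 207, 208, 209, 210, 211, 212, 213, 214, 215, 216, 217, 218, 219, 220, 221, 222, 223, 224, 225, 226, 227, 228, 229, 230, 231, 232, 233, 234, 235, 236, 237, 238, 239, 240, 241, 242, 243, 244]

/-- `T_g T_p = ω ^ z T_k` along two lists -/
def zipOk (g : ℕ) : List ℕ → List (ℕ × ℕ) → Bool
  | [], _ => true
  | _ :: _, [] => false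
  | p :: l, w :: m => inP w.1 && (Nat.blt w.2 3 && (e3 g p w.1 w.2 && zipOk g l m))

def cl4 : List (ℕ × ℕ) :=
  [(4, 0), (11, 1), (8, 0), (9, 0), (10, 0), (12, 0), (0, 0), (26, 0), (27, 0), (28, 1), (29, 0), (30, 0), (31, 0), (32, 1), (33, 0), (34, 0), (35, 1), (36, 0), (18, 2), (37, 2), (38, 1), (39, 0), (40, 1), (41, 0), (5, 0), (6, 0), (1, 1), (7, 0), (77, 0), (78, 0), (79, 1), (80, 0), (81, 0), (20, 0), (82, 0), (83, 2), (84, 1), (85, 0), (86, 1), (87, 0), (88, 0), (89, 1), (90, 0), (91, 0), (92, 1), (93, 0), (46, 2), (94, 2), (95, 1), (66, 2), (96, 0), (61, 2), (97, 0), (53, 2), (64, 1), (98, 1), (99, 0), (100, 1), (101, 0), (55, 2), (56, 0), (57, 2), (62, 2), (102, 2), (103, 1), (104, 2), (105, 1), (106, 0), (107, 1), (108, 0), (70, 2), (109, 2), (110, 1), (111, 0), (112, 1), (13, 0), (14, 0), (15, 1), (16, 0), (17, 0), (19, 0), (21, 2), (22, 1), (23, 0), (24, 1), (25, 0), (146, 2), (171, 1), (172, 0), (173, 0), (48, 0), (174,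 0), (175, 2), (176, 1), (177, 0), (178, 0), (63, 0), (179, 0), (129, 2), (180, 0), (181, 2), (51, 0), (182, 2), (161, 1), (155, 0), (72, 0), (183, 0), (184, 2), (185, 1), (186, 0), (143, 0), (187, 0), (188, 1), (114, 2), (189, 2), (158, 2), (190, 0), (123, 2), (119, 2), (125, 1), (138, 2), (120, 2), (121, 0), (124, 2), (159, 2), (151, 2), (191, 1), (59, 0), (153, 0), (154, 2), (166, 1), (136, 1), (192, 0), (133, 0), (135, 2), (150, 1), (193, 1), (194, 2), (195, 1), (196, 0), (197, 2), (76, 2), (198, 0), (128, 0), (42, 1), (137, 0), (139, 0), (140, 2), (147, 2), (199, 2), (200, 2), (201, 2), (202, 1), (69, 0), (203, 2), (204, 2), (162, 2), (164, 1), (205, 1), (68, 1), (117, 2), (160, 2), (126, 0), (206, 2), (207, 1), (208, 2), (209, 1), (168, 2), (210, 2), (43, 1), (44, 0), (45, 0), (47, 0), (49, 2), (50, 1), (52, 0), (54, 0), (58, 0), (60, 0), (65, 2), (67, 2), (71, 0), (73, 2), (74, 1), (75, 0), (225, 2), (115, 0), (237, 0), (239,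 0), (145, 2), (240, 0), (122, 0), (148, 1), (149, 0), (236, 2), (217, 1), (233, 2), (127, 2), (232, 0), (130, 1), (131, 0), (241, 2), (228, 2), (163, 0), (222, 1), (132, 1), (242, 2), (169, 0), (227, 1), (214, 2), (211, 2), (216, 1), (212, 2), (213, 0), (215, 2), (142, 0), (220, 1), (218, 0), (219, 2), (234, 2), (165, 0), (231, 0), (226, 1), (113, 1), (230, 1), (170, 0), (157, 2), (221, 0), (224, 1), (238, 2), (152, 1), (144, 1), (229, 1), (243, 2), (141, 1), (116, 1), (223, 1), (118, 0), (134, 0), (156, 2), (167, 2), (244, 2), (235, 2)]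

theorem cl4_ok : zipOk 4 p3 cl4 = true := by decide +kernel

def cl5 : List (ℕ × ℕ) :=
  [(5, 0), (15, 0), (9, 0), (13, 0), (14, 0), (16, 1), (26, 0), (30, 0), (31, 0), (32, 0), (33, 1), (0, 0), (42, 0), (43, 0), (44, 1), (45, 0), (46, 0), (47, 1), (48, 0), (49, 0), (50, 1), (19, 2), (51, 1), (52, 2), (77, 0), (78, 0), (79, 0), (80, 1), (4, 0), (88, 0), (89, 0), (90, 1), (91, 0), (92, 0), (93, 1), (94, 0), (95, 1), (36, 2), (66, 2), (96, 2), (6, 0), (1, 0), (7, 1), (113, 0), (114, 0), (23, 0), (115, 0), (116, 0), (117, 1), (98, 1), (118, 2), (119, 0), (69, 2), (120, 0), (121, 0), (86, 1), (54, 2), (122, 1), (75, 1), (123, 0), (124, 0), (40, 2), (125, 0), (126, 1), (63, 2), (127, 1), (128, 2), (58, 2), (59, 2), (60, 0), (129, 1), (130, 1), (131, 2), (71, 2), (132, 2), (8, 0), (146, 2), (171, 0), (172, 1), (173, 0), (174, 1), (175, 0), (176, 1), (82, 2), (103, 2), (177, 2), (10, 0), (11, 0), (12, 1), (187, 0), (188, 0), (39, 0), (189,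 0), (158, 2), (190, 2), (106, 2), (24, 1), (97, 2), (138, 2), (111, 1), (159, 1), (57, 0), (151, 1), (191, 2), (99, 2), (100, 2), (101, 0), (153, 2), (154, 0), (108, 2), (166, 2), (17, 0), (18, 0), (20, 0), (21, 0), (22, 1), (25, 2), (211, 0), (212, 0), (213, 0), (70, 0), (214, 0), (215, 0), (216, 0), (217, 1), (137, 0), (209, 2), (193, 1), (194, 1), (195, 2), (205, 0), (218, 0), (144, 1), (219, 0), (220, 0), (67, 2), (107, 2), (184, 1), (185, 2), (134, 0), (102, 0), (207, 0), (141, 2), (168, 1), (27, 1), (182, 0), (109, 2), (110, 0), (104, 0), (150, 2), (221, 2), (148, 2), (149, 0), (179, 2), (210, 2), (222, 2), (38, 0), (142, 2), (143, 0), (145, 0), (84, 2), (112, 2), (197, 0), (223, 2), (163, 2), (200, 2), (161, 2), (105, 0), (224, 2), (28, 0), (29, 1), (225, 2), (85, 0), (237, 1), (162, 0), (239, 2), (155, 2), (178, 2), (186, 1), (164, 0), (199, 1), (180, 0), (201, 2), (202, 0), (183, 2), (34, 0), (35, 0), (37, 0), (41, 2), (169,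 1), (198, 1), (72, 1), (73, 1), (74, 2), (192, 0), (181, 0), (196, 2), (147, 2), (234, 2), (139, 0), (140, 1), (227, 1), (165, 0), (76, 1), (231, 0), (160, 0), (232, 0), (68, 2), (226, 1), (53, 0), (55, 0), (56, 0), (61, 0), (62, 0), (64, 0), (65, 1), (243, 2), (235, 0), (244, 0), (242, 2), (238, 1), (204, 1), (241, 2), (81, 1), (156, 0), (230, 1), (206, 0), (208, 0), (203, 1), (228, 0), (229, 0), (236, 2), (167, 2), (135, 0), (240, 1), (83, 2), (157, 0), (87, 2), (233, 0), (170, 2), (152, 2), (133, 1), (136, 0)]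

theorem cl5_ok : zipOk 5 p3 cl5 = true := by decide +kernel

def cl6 : List (ℕ × ℕ) :=
  [(6, 0), (20, 0), (10, 0), (14, 0), (17, 0), (23, 0), (27, 0), (31, 0), (34, 0), (18, 1), (39, 0), (42, 0), (45, 0), (48, 0), (19, 1), (0, 0), (55, 0), (58, 0), (61, 0), (64, 0), (66, 0), (69, 0), (72, 0), (75, 0), (78, 0), (81, 0), (35, 1), (85, 0), (88, 0), (91, 0), (46, 1), (36, 1), (4, 0), (53, 1), (99, 0), (62, 0), (103, 0), (106, 0), (70, 1), (111, 0), (113, 0), (115, 0), (47, 1), (5, 0), (120, 0), (54, 1), (123, 0), (125, 0), (63, 1), (129, 0), (71, 0), (28, 1), (44, 1), (11, 2), (136, 0), (138, 0), (16, 2), (22, 2), (144, 0), (1, 0), (133, 2), (122, 0), (135, 1), (151, 0), (59, 1), (130, 2), (110, 2), (7, 0), (117, 0), (134, 2), (162, 0), (164, 0), (166, 0), (141, 1), (169, 0), (146, 2), (173, 0), (92, 1), (82, 1), (8, 0), (179, 0), (56, 1), (51, 2), (155, 0), (107, 1), (186, 0), (187, 0), (114, 1), (93, 1), (9, 0), (119, 1), (97, 1),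 (124, 0), (57, 2), (108, 0), (90, 1), (193, 0), (33, 2), (38, 2), (198, 0), (199, 0), (100, 1), (153, 0), (185, 2), (12, 0), (158, 1), (192, 2), (126, 1), (207, 0), (196, 1), (168, 1), (13, 0), (212, 0), (214, 0), (216, 0), (40, 2), (60, 1), (79, 1), (32, 2), (220, 0), (50, 2), (15, 0), (218, 2), (219, 1), (150, 1), (194, 2), (154, 0), (84, 1), (197, 2), (163, 0), (105, 1), (37, 1), (52, 1), (21, 2), (83, 2), (73, 0), (95, 1), (102, 1), (76, 0), (25, 2), (182, 2), (209, 2), (118, 2), (131, 1), (225, 0), (184, 1), (65, 2), (143, 0), (109, 1), (148, 1), (203, 0), (217, 0), (160, 0), (29, 0), (165, 2), (167, 2), (86, 1), (147, 1), (128, 0), (74, 2), (24, 0), (145, 2), (137, 0), (232, 2), (161, 1), (224, 0), (195, 2), (140, 0), (238, 0), (188, 1), (174, 1), (26, 0), (178, 1), (121, 1), (98, 2), (183, 0), (172, 1), (80, 2), (233, 2), (127, 0), (201, 0), (240, 2), (159, 1), (132, 0), (236, 0), (30, 0), (211, 1), (215, 0), (101, 1), (202,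 0), (96, 1), (176, 1), (181, 1), (112, 0), (41, 2), (67, 2), (190, 2), (139, 2), (241, 0), (142, 1), (205, 0), (206, 2), (208, 2), (191, 0), (152, 1), (68, 1), (226, 2), (149, 1), (223, 2), (171, 1), (89, 2), (244, 0), (43, 0), (243, 1), (235, 1), (104, 0), (94, 1), (49, 2), (175, 2), (227, 2), (200, 2), (229, 0), (157, 1), (77, 1), (204, 2), (231, 1), (242, 2), (210, 1), (228, 0), (221, 0), (156, 2), (239, 0), (170, 0), (116, 2), (87, 0), (213, 0), (234, 0), (180, 1), (177, 1), (222, 1), (230, 1), (189, 2), (237, 0)]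

theorem cl6_ok : zipOk 6 p3 cl6 = true := by decide +kernel

def cl1 : List (ℕ × ℕ) :=
  [(1, 0), (21, 0), (11, 0), (15, 0), (18, 0), (24, 0), (28, 0), (32, 0), (35, 0), (37, 0), (40, 0), (43, 0), (46, 0), (49, 0), (51, 0), (53, 0), (56, 0), (59, 0), (62, 0), (13, 0), (67, 0), (70, 0), (73, 0), (76, 0), (79, 0), (20, 2), (83, 0), (86, 0), (89, 0), (92, 0), (94, 0), (66, 1), (61, 1), (64, 2), (100, 0), (30, 0), (104, 0), (107, 0), (109, 0), (112, 0), (114, 0), (116, 0), (98, 0), (119, 0), (121, 0), (122, 0), (124, 0), (0, 0), (127, 0), (130, 0), (132, 0), (133, 0), (95, 0), (135, 0), (42, 0), (139, 0), (38, 1), (142, 0), (145, 0), (136, 1), (146, 0), (148, 0), (88, 1), (82, 0), (153, 0), (155, 0), (157, 0), (158, 0), (159, 0), (161, 0), (126, 1), (44, 2), (167, 0), (168, 0), (170, 0), (171, 0), (48, 2), (175, 0), (103, 1), (55, 2), (129, 1), (77, 0), (182, 0), (72, 2), (184, 0), (143, 2), (188, 0), (189, 0), (63, 2), (123, 1), (125,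 2), (138, 1), (4, 0), (151, 0), (166, 0), (176, 0), (194, 0), (84, 1), (197, 0), (128, 2), (19, 0), (201, 0), (69, 0), (204, 0), (162, 1), (164, 2), (68, 0), (90, 2), (208, 0), (209, 0), (210, 0), (211, 0), (213, 0), (215, 0), (5, 0), (137, 2), (205, 1), (218, 0), (219, 0), (6, 0), (102, 2), (220, 1), (27, 1), (10, 1), (174, 0), (179, 1), (222, 0), (217, 1), (7, 2), (200, 0), (224, 0), (113, 0), (110, 2), (225, 0), (187, 1), (178, 0), (181, 1), (80, 2), (221, 0), (149, 2), (23, 1), (227, 0), (154, 1), (206, 0), (115, 0), (97, 1), (33, 0), (229, 0), (54, 1), (58, 1), (192, 2), (12, 1), (232, 0), (117, 2), (96, 1), (111, 1), (150, 0), (47, 0), (203, 2), (228, 0), (147, 2), (156, 0), (93, 1), (183, 0), (226, 2), (236, 0), (231, 2), (223, 2), (118, 1), (237, 1), (57, 0), (120, 2), (193, 1), (8, 0), (199, 0), (207, 0), (50, 0), (22, 1), (191, 2), (36, 0), (106, 0), (105, 0), (172, 2), (242, 0), (169, 2), (214, 1), (216, 2), (9, 0), (163,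 0), (165, 1), (185, 2), (65, 1), (16, 2), (234, 0), (140, 0), (39, 1), (202, 1), (99, 1), (240, 2), (29, 1), (152, 2), (177, 1), (186, 1), (241, 2), (71, 0), (230, 1), (141, 1), (238, 2), (190, 1), (243, 2), (235, 0), (14, 0), (244, 1), (78, 1), (31, 1), (85, 2), (17, 0), (81, 1), (34, 1), (198, 1), (108, 1), (180, 1), (25, 1), (212, 0), (41, 2), (239, 2), (75, 1), (144, 2), (87, 0), (60, 0), (134, 1), (131, 1), (233, 0), (173, 1), (195, 1), (26, 2), (101, 0), (160, 1), (74, 2), (52, 1), (196, 1), (45, 1), (91, 1)]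

theorem cl1_ok : zipOk 1 p3 cl1 = true := by decide +kernel

def cl7 : List (ℕ × ℕ) :=
  [(7, 0), (22, 0), (12, 0), (16, 0), (19, 0), (25, 0), (29, 0), (33, 0), (36, 0), (38, 0), (41, 0), (44, 0), (47, 0), (50, 0), (52, 0), (54, 0), (57, 0), (60, 0), (63, 0), (65, 0), (68, 0), (71, 0), (74, 0), (4, 0), (80, 0), (82, 0), (84, 0), (87, 0), (90, 0), (93, 0), (95, 0), (96, 0), (97, 0), (98, 0), (101, 0), (102, 0), (105, 0), (108, 0), (110, 0), (8, 0), (23, 2), (117, 0), (118, 0), (69, 1), (86, 0), (75, 2), (40, 1), (126, 0), (128, 0), (131, 0), (9, 0), (72, 1), (134, 0), (107, 0), (137, 0), (140, 0), (141, 0), (143, 0), (10, 0), (70, 1), (147, 0), (149, 0), (150, 0), (152, 0), (154, 0), (156, 0), (11, 1), (144, 1), (160, 0), (88, 1), (163, 0), (165, 0), (48, 0), (31, 1), (119, 0), (172, 0), (174, 0), (176, 0), (177, 0), (178, 0), (180, 0), (181, 0), (161, 0), (183, 0), (185, 0), (0, 0), (39, 2), (158, 1), (190, 0), (106, 1), (24, 0),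 (111, 2), (159, 0), (191, 0), (26, 0), (192, 0), (195, 0), (196, 0), (76, 1), (27, 0), (200, 0), (202, 0), (203, 0), (28, 1), (198, 1), (205, 0), (146, 0), (206, 0), (46, 1), (78, 1), (123, 1), (58, 2), (103, 1), (66, 2), (217, 0), (209, 0), (30, 0), (129, 1), (100, 1), (67, 1), (207, 1), (59, 2), (182, 2), (104, 2), (221, 0), (210, 0), (32, 1), (112, 0), (223, 0), (115, 0), (211, 0), (201, 2), (34, 0), (153, 0), (130, 2), (226, 0), (132, 0), (157, 2), (35, 1), (187, 1), (167, 2), (120, 0), (91, 1), (15, 0), (85, 0), (224, 2), (228, 0), (18, 2), (230, 0), (227, 2), (37, 2), (231, 0), (114, 0), (233, 0), (125, 0), (220, 1), (169, 1), (234, 0), (55, 1), (1, 1), (168, 1), (61, 1), (229, 0), (235, 0), (214, 1), (237, 0), (43, 1), (171, 2), (213, 1), (162, 2), (239, 0), (155, 1), (186, 2), (164, 2), (145, 1), (5, 0), (240, 0), (236, 2), (6, 0), (232, 1), (241, 0), (42, 1), (222, 2), (92, 1), (14, 1), (99, 2), (51, 0), (142, 1), (77, 0),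 (79, 1), (81, 0), (166, 0), (204, 2), (20, 0), (225, 0), (208, 2), (173, 1), (170, 0), (83, 2), (238, 0), (188, 0), (124, 0), (219, 1), (53, 2), (243, 0), (212, 2), (116, 2), (89, 1), (216, 0), (193, 1), (138, 2), (127, 1), (122, 2), (199, 2), (151, 2), (242, 0), (139, 1), (148, 1), (194, 2), (94, 2), (244, 1), (135, 0), (56, 1), (179, 0), (64, 1), (215, 1), (218, 2), (49, 0), (62, 2), (133, 0), (21, 1), (45, 2), (175, 2), (109, 2), (113, 2), (197, 0), (136, 2), (13, 0), (17, 0), (121, 1), (189, 2), (184, 2), (73, 2)]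

theorem cl7_ok : zipOk 7 p3 cl7 = true := by decide +kernel

/-- certificates for the 3-elements: `(3, c)` : `T_c T_p = ω T_p T_c`; `(z, h)` : `T_h T_225 = ω ^ z T_p T_h` -/
def fOk (p : ℕ) (w : ℕ × ℕ) : Bool :=
  bif Nat.beq w.1 4 then Nat.beq p 0 else bif Nat.beq w.1 3 then e4 w.2 p p w.2 1 else Nat.blt w.1 3 && e4 w.2 225 p w.2 w.1

def fAll : List ℕ → List (ℕ × ℕ) → Bool
  | [], _ => true
  | _ :: _, [] => false
  | p :: l, w :: m => fOk p w && fAll l m

def fw : List (ℕ × ℕ) :=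
  [(4, 0), (3, 4), (3, 21), (3, 25), (0, 319), (3, 5), (3, 1), (3, 21), (1, 320), (3, 4), (3, 5), (3, 7), (1, 250), (3, 4), (3, 5), (0, 321), (3, 4), (3, 5), (3, 4), (3, 8), (3, 4), (3, 5), (3, 4), (3, 13), (3, 1), (1, 3), (3, 4), (3, 5), (3, 7), (2, 322), (3, 4), (3, 5), (2, 323), (3, 4), (3, 5), (3, 8), (3, 4), (3, 5), (3, 4), (3, 13), (1, 316), (3, 4), (3, 5), (2, 325), (3, 4), (3, 5), (3, 4), (3, 8), (3, 4), (3, 4), (3, 13), (3, 4), (3, 5), (3, 4), (3, 8), (3, 4), (3, 5), (3, 4), (3, 13), (3, 4), (3, 8), (3, 4), (3, 8), (3, 5), (3, 4), (3, 5), (3, 4), (3, 5), (3, 4), (3, 13), (3, 4), (3, 5), (3, 4), (3, 13), (3, 4), (3, 1), (2, 326), (3, 4), (3, 5), (2, 327), (3, 5), (3, 1), (3, 4), (3, 5), (3, 4), (3, 13), (2, 328), (3, 4), (3, 5), (1, 324), (3, 4), (3, 5), (3, 8), (3, 4), (3, 13), (3, 5), (3, 4), (3, 5), (3, 4), (3, 13), (3, 5), (3, 4), (3, 5), (3, 4), (3, 5), (3, 4), (3, 13), (3, 5), (3, 4), (3, 13), (3, 4), (2, 21), (3, 4),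 (3, 4), (3, 8), (3, 4), (3, 7), (3, 4), (3, 4), (3, 8), (3, 4), (3, 4), (3, 8), (3, 8), (3, 5), (3, 5), (3, 4), (3, 4), (3, 5), (3, 4), (3, 4), (3, 8), (3, 13), (3, 8), (3, 8), (3, 5), (3, 4), (3, 5), (3, 4), (3, 13), (3, 5), (3, 4), (3, 13), (3, 4), (1, 329), (3, 5), (3, 5), (3, 4), (3, 5), (3, 5), (3, 8), (3, 5), (3, 4), (3, 5), (3, 8), (3, 8), (3, 4), (3, 5), (3, 4), (3, 4), (3, 4), (3, 4), (3, 5), (3, 8), (3, 4), (3, 8), (3, 4), (3, 4), (3, 8), (3, 4), (3, 5), (1, 249), (3, 5), (3, 1), (3, 4), (3, 13), (3, 5), (3, 5), (3, 13), (3, 5), (3, 5), (3, 13), (3, 5), (3, 4), (3, 13), (1, 1), (3, 4), (3, 8), (3, 7), (3, 4), (3, 13), (3, 4), (3, 5), (3, 4), (3, 13), (3, 5), (3, 13), (3, 5), (3, 8), (3, 5), (3, 4), (3, 8), (3, 8), (3, 4), (3, 8), (3, 4), (3, 8), (3, 4), (3, 8), (3, 4), (3, 4), (3, 8), (3, 4), (3, 8), (3, 8), (3, 5), (3, 8), (3, 8), (3, 8), (3, 8), (3, 8), (3, 8), (3, 8), (0, 0), (3, 8), (3, 8), (3, 8), (3, 8), (3, 8), (3,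 8), (3, 8), (3, 13), (3, 8), (3, 8), (3, 13), (3, 1), (3, 8), (3, 7), (3, 13), (3, 8), (3, 8), (3, 8), (3, 8)]

theorem fw_ok : fAll p3 fw = true := by decide +kernel

/-- commutators: `(r, y, q, z, z')` : `T_1 T_y = ω ^ z T_r T_q`, `T_y T_1 = ω ^ z' T_q` -/
def rl : List (ℕ × ℕ × ℕ × ℕ × ℕ) :=
  [(254, 2, 251, 0, 0), (258, 255, 256, 0, 0), (271, 264, 265, 0, 0), (288, 280, 281, 0, 0), (305, 298, 299, 0, 0), (225, 195, 226, 2, 2), (337, 331, 332, 0, 0), (447, 441, 442, 0, 0), (556, 317, 553, 0, 0), (675, 670, 671, 0, 0), (776, 261, 262, 0, 0), (784, 746, 513, 0, 0), (846, 840, 841, 0, 0), (868, 862, 863, 0, 0), (926, 711, 861, 0, 0), (1017, 276, 277, 0, 0)]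

def rOk (e : ℕ × ℕ × ℕ × ℕ × ℕ) : Bool :=
  Nat.blt e.2.2.2.1 3 && (Nat.blt e.2.2.2.2 3 && (e4 1 e.2.1 e.1 e.2.2.1 e.2.2.2.1 && e3 e.2.1 1 e.2.2.1 e.2.2.2.2))

theorem rl_ok : rl.all rOk = true := by decide +kernel

theorem fus_one : e4 4 1 1 4 1 = true := by decide +kernel

/-- conjugates: `(p, h, r, z)` : `T_h T_r = ω ^ z T_p T_h` -/
def tl : List (ℕ × ℕ × ℕ × ℕ) :=
  [(337, 0, 337, 0), (338, 367, 337, 2), (340, 381, 337, 0), (344, 393, 337, 2), (345, 405, 337, 1), (349, 418, 337, 0), (351, 426, 337, 1), (352, 439, 337, 0), (339, 460, 447, 0), (341, 473, 447, 1), (342, 486, 447, 0), (343, 496, 447, 2), (346, 511, 447, 2), (347, 525, 447, 1), (348, 539, 447, 0), (350, 552, 447, 1), (556, 0, 556, 0), (559, 586, 556, 0), (560, 598, 556, 2), (561, 610, 556, 1), (562, 621, 556, 0), (564, 635, 556, 1), (566, 646, 556, 2), (571, 656, 556, 0), (572, 669, 556, 2), (557, 690, 675, 2), (558, 699, 675, 1), (563, 710, 675, 2), (565, 722, 675,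 0), (567, 732, 675, 1), (568, 745, 675, 0), (569, 759, 675, 2), (570, 769, 675, 1), (573, 774, 675, 1), (817, 859, 846, 1), (818, 860, 846, 1), (778, 876, 868, 0), (819, 877, 868, 0), (826, 886, 784, 0), (829, 894, 784, 0), (831, 896, 784, 0), (834, 898, 784, 0), (836, 911, 784, 0), (839, 923, 784, 0), (827, 937, 926, 0), (828, 948, 926, 0), (832, 960, 926, 0), (833, 975, 926, 0), (837, 988, 926, 0), (838, 1000, 926, 0), (776, 0, 776, 0), (779, 1013, 776, 0), (821, 827, 776, 0), (822, 261, 776, 0), (777, 1032, 1017, 0), (820, 1047, 1017, 0), (824, 1048, 1017, 0), (825, 1060, 1017, 0)]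

def tOk (e : ℕ × ℕ × ℕ × ℕ) : Bool :=
  Nat.blt e.2.2.2 3 && ((rl.map Prod.fst).elem e.2.2.1 && e4 e.2.1 e.2.2.1 e.1 e.2.1 e.2.2.2)

theorem tl_ok : tl.all tOk = true := by decide +kernel

/-- powers: `T_r T_a = ω ^ z T_b` for consecutive entries; the last product is a scalar -/
def pOk (r : ℕ) : List ℕ → List ℕ → Bool
  | [], _ => true
  | _ :: _, [] => false
  | [a], z :: _ => Nat.blt z 3 && e3 r a 0 z
  | a :: b :: l, z :: m => Nat.blt z 3 && (e3 r a b z && pOk r (b :: l) m)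

/-- not a scalar -/
def nsOk (k : ℕ) : Bool := !(e3 0 k 0 0) && (!(e3 0 k 0 1) && !(e3 0 k 0 2))

def pw2 : List ℕ := [0, 254]

theorem pw2_ok : pOk 254 pw2 [0, 0] = true := by decide +kernel

theorem pw2_ns2 : nsOk 254 = true := by decide +kernel

def pw4 : List ℕ := [0, 258, 259, 260]

theorem pw4_ok : pOk 258 pw4 [0, 0, 0, 0] = true := by decide +kernel

theorem pw4_ns2 : nsOk 259 = true := by decide +kernel

def pw6 : List ℕ := [0, 271, 272, 273, 274, 275]

theorem pw6_ok : pOk 271 pw6 [0, 0, 0, 0, 0, 0] = true := by decide +kernel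

theorem pw6_ns2 : nsOk 273 = true := by decide +kernel

theorem pw6_ns3 : nsOk 272 = true := by decide +kernel

def pw8 : List ℕ := [0, 288, 289, 290, 291, 292, 293, 294]

theorem pw8_ok : pOk 288 pw8 [0, 0, 0, 0, 0, 0, 0, 2] = true := by decide +kernel

theorem pw8_ns2 : nsOk 291 = true := by decide +kernel

def pw12 : List ℕ := [0, 305, 306, 307, 308, 309, 310, 311, 312, 313, 314, 315]

theorem pw12_ok : pOk 305 pw12 [0, 0, 0, 0, 0, 0, 0, 0, 0, 0, 0, 0] = true := by decide +kernel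

theorem pw12_ns2 : nsOk 310 = true := by decide +kernel

theorem pw12_ns3 : nsOk 308 = true := by decide +kernel

def pw17 : List ℕ := [0, 337, 338, 339, 340, 341, 342, 343, 344, 345, 346, 347, 348, 349, 350, 351, 352]

theorem pw17_ok : pOk 337 pw17 [0, 0, 0, 0, 0, 0, 0, 0, 0, 0, 0, 0, 0, 0, 0, 0, 2] = true := by decide +kernel

theorem pw17_ns17 : nsOk 337 = true := by decide +kernel

def pw19 : List ℕ := [0, 556, 557, 558, 559, 560, 561, 562, 563, 564, 565, 566, 567, 568, 569, 570, 571, 572, 573]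

theorem pw19_ok : pOk 556 pw19 [0, 0, 0, 0, 0, 0, 0, 0, 0, 0, 0, 0, 0, 0, 0, 0, 0, 0, 1] = true := by decide +kernel

theorem pw19_ns19 : nsOk 556 = true := by decide +kernel

def pw5 : List ℕ := [0, 778, 817, 818, 819]

theorem pw5_ok : pOk 778 pw5 [0, 0, 0, 0, 0] = true := by decide +kernel

theorem pw5_ns5 : nsOk 778 = true := by decide +kernel

/-- a number attached to a list -/
def code : List ℕ → ℕ
  | [] => 0
  | a :: l => Nat.add a (Nat.mul 262144 (code l))

def mn (a b : ℕ) : ℕ := bif Nat.ble a b then a else b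

/-- the least code of the three multiples by scalars -/
def mc (k : ℕ) : ℕ := mn (code (compT (tS 0) (cols (tb k)))) (mn (code (compT (tS 1) (cols (tb k)))) (code (compT (tS 2) (cols (tb k)))))

def chOk : List ℕ → Bool
  | [] => true
  | [_] => true
  | a :: b :: l => Nat.blt (mc a) (mc b) && chOk (b :: l)

/-- the indices of the Sylow 3-subgroup, ordered by `mc` -/
def q3 : List ℕ :=
  [98, 51, 24, 38, 158, 95, 70, 122, 59, 22, 117, 50, 72, 193, 129, 57, 103, 86, 107, 138, 100, 63, 66, 40, 84, 162, 176, 194, 130, 73, 104, 150, 151, 159, 102, 142, 67, 137, 127, 126, 65, 217, 139, 201, 184, 164, 181, 197, 148, 153, 109, 182, 147, 199, 44, 16, 7, 58, 69, 54, 23, 47, 19, 179, 155, 178, 85, 174, 82, 172, 80, 29, 39, 93, 36, 90, 33, 12, 99, 106, 97, 195, 131, 74, 105, 169, 191, 160, 207, 143, 68, 209, 128, 163, 166, 112, 140, 202, 185, 205, 132, 76, 149, 154, 110, 161, 168, 145, 204, 223, 165, 203, 230, 227, 234, 200, 167, 156, 226,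 210, 221, 152, 242, 157, 238, 222, 229, 232, 208, 228, 231, 206, 241, 224, 170, 118, 52, 25, 141, 144, 134, 71, 75, 60, 236, 233, 240, 183, 186, 180, 239, 177, 87, 108, 111, 101, 190, 96, 41, 196, 198, 192, 35, 188, 92, 11, 89, 32, 61, 214, 123, 1, 43, 15, 53, 211, 119, 18, 114, 46, 55, 212, 120, 20, 115, 48, 28, 171, 79, 136, 244, 220, 64, 216, 125, 37, 189, 94, 56, 213, 121, 21, 116, 49, 133, 243, 218, 83, 237, 175, 135, 235, 219, 62, 215, 124, 0, 13, 5, 17, 113, 45, 6, 42, 14, 81, 225, 173, 27, 146, 78, 8, 77, 26, 10, 88, 31, 4, 30, 9, 34, 187, 91]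

theorem q3_ch : chOk q3 = true := by decide +kernel

theorem q3_in : q3.all inP = true := by decide +kernel

theorem q3_len : q3.length = 243 := by decide +kernel

/-- the indices of the centralizer of an element of order 5, ordered by `mc` -/
def q5 : List ℕ :=
  [825, 820, 838, 837, 824, 816, 777, 778, 819, 0, 779, 835, 822, 818, 829, 836, 830, 828, 817, 839, 831, 780, 821, 826, 827, 834, 833, 823, 832, 776]

theorem q5_ch : chOk q5 = true := by decide +kernel

theorem q5_len : q5.length = 30 := by decide +kernel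

def cfOk : List ℕ → List ℕ → Bool
  | [], _ => true
  | _ :: _, [] => false
  | c :: l, z :: m => Nat.blt z 3 && (e4 c 778 778 c z && cfOk l m)

theorem cf_ok : cfOk q5 [0, 0, 0, 0, 0, 0, 0, 0, 0, 0, 0, 0, 0, 0, 0, 0, 0, 0, 0, 0, 0, 0, 0, 0, 0, 0, 0, 0, 0, 0] = true := by decide +kernel

/-- squares and cubes of the elements of order 1, 2, 3 -/
def sOk (e : ℕ × ℕ × ℕ × ℕ) : Bool :=
  Nat.blt e.2.2.1 3 && (Nat.blt e.2.2.2 3 && (e3 e.1 e.1 e.2.1 e.2.2.1 && (Nat.beq e.2.1 0 || e3 e.1 e.2.1 0 e.2.2.2)))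

def sl : List (ℕ × ℕ × ℕ × ℕ) := [(816, 0, 0, 0), (0, 0, 0, 0), (835, 0, 0, 0), (830, 0, 0, 0), (780, 823, 0, 0), (823, 780, 0, 0)]

theorem sl_ok : sl.all sOk = true := by decide +kernel

/-- the elements of `C(f)` of order 1, 2, 3 are not in the list `tl` -/
def c5rest : List ℕ := sl.map Prod.fst

theorem c5_cases : q5.all (fun c => (tl.map Prod.fst).elem c || c5rest.elem c) = true := by decide +kernel

theorem pw17_cases : pw17.all (fun c => (tl.map Prod.fst).elem c || Nat.beq c 0) = true := by decide +kernel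

theorem pw19_cases : pw19.all (fun c => (tl.map Prod.fst).elem c || Nat.beq c 0) = true := by decide +kernel

end Cfsg.Agent.H514.QS
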